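import Groth.Agent.DimTheory.Algebra
import Mathlib

/-!
# Transcendence degrees of `S ⧸ P` over `R ⧸ p` as dimensions in the fibre over `p`
-/

universe u

open TensorProduct

set_option linter.style.haveILetI false
set_option synthInstance.maxHeartbeats 200000
set_option maxHeartbeats 800000
set_option maxSynthPendingDepth 5

namespace Groth.Agent.PruferDim

/-- `R₀ ⊆ k ⊆ E`, `R₀ ⊆ D ⊆ E` with `k/R₀` and `E/D` algebraic. -/
theorem trdeg_eq_of_algebraic (R₀ k D E : Type u) [CommRing R₀] [IsDomain R₀] [CommRing k] [IsDomain k]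
    [CommRing D] [IsDomain D] [CommRing E] [IsDomain E] [Algebra R₀ k] [Algebra R₀ D] [Algebra R₀ E]
    [Algebra k E] [Algebra D E] [IsScalarTower R₀ k E] [IsScalarTower R₀ D E]
    [FaithfulSMul R₀ k] [FaithfulSMul k E] [FaithfulSMul R₀ D] [FaithfulSMul D E]
    [Algebra.IsAlgebraic R₀ k] [Algebra.IsAlgebraic D E] :
    Algebra.trdeg k E = Algebra.trdeg R₀ D := by
  have h1 := trdeg_add_eq R₀ k (A := E)
  have h2 := trdeg_add_eq R₀ D (A := E)
  rw [trdeg_eq_zero (R := R₀) (A := k), zero_add] at h1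
  rw [trdeg_eq_zero (R := D) (A := E), add_zero] at h2
  rw [h1, h2]

theorem trdeg_eq_dim {R₀ k D E : Type u} [CommRing R₀] [IsDomain R₀] [Field k] [CommRing D] [IsDomain D]
    [CommRing E] [IsDomain E] [Algebra R₀ k] [IsFractionRing R₀ k] [Algebra R₀ D] [Algebra k E]
    [Algebra.FiniteType k E] (i : D →+* E) (hi : Function.Injective i)
    (hD : Function.Injective (algebraMap R₀ D))
    (hc : ∀ r, i (algebraMap R₀ D r) = algebraMap k E (algebraMap R₀ k r))
    (halg : ∀ z : E, ∃ a b : D, a ≠ 0 ∧ i a * z = i b) :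
    ringKrullDim E = Cardinal.toNat (Algebra.trdeg R₀ D) := by
  letI : Algebra D E := i.toAlgebra
  letI : Algebra R₀ E := (i.comp (algebraMap R₀ D)).toAlgebra
  haveI : IsScalarTower R₀ D E := IsScalarTower.of_algebraMap_eq fun _ => rfl
  haveI : IsScalarTower R₀ k E := IsScalarTower.of_algebraMap_eq hc
  haveI : FaithfulSMul R₀ D := (faithfulSMul_iff_algebraMap_injective _ _).2 hD
  haveI : FaithfulSMul D E := (faithfulSMul_iff_algebraMap_injective _ _).2 hi
  haveI : FaithfulSMul k E := (faithfulSMul_iff_algebraMap_injective _ _).2 (RingHom.injective _)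
  haveI : FaithfulSMul R₀ k :=
    (faithfulSMul_iff_algebraMap_injective _ _).2 (IsFractionRing.injective R₀ k)
  haveI : Algebra.IsAlgebraic R₀ k := IsLocalization.isAlgebraic k (nonZeroDivisors R₀)
  haveI : Algebra.IsAlgebraic D E := ⟨fun z => by
    obtain ⟨a, b, ha, hab⟩ := halg z
    refine ⟨Polynomial.C a * Polynomial.X - Polynomial.C b, fun h => ha ?_, ?_⟩
    · have h1 := congrArg (fun q => Polynomial.coeff q 1) h
      simpa using h1
    · rw [map_sub, map_mul, Polynomial.aeval_C, Polynomial.aeval_C, Polynomial.aeval_X]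
      exact sub_eq_zero.2 hab⟩
  obtain ⟨n, hn, ht⟩ := DimTheory.exists_trdeg_eq k E
  rw [hn, ← trdeg_eq_of_algebraic R₀ k D E, ht, Cardinal.toNat_natCast]

variable {R S : Type u} [CommRing R] [CommRing S] [Algebra R S]

/-- Transcendence degree of `S ⧸ P` over the image of `R`. -/
noncomputable def dTr (R : Type u) [CommRing R] [Algebra R S] (P : Ideal S) : ℕ :=
  Cardinal.toNat (Algebra.trdeg (R ⧸ P.under R) (S ⧸ P))

theorem dTr_eq (P : Ideal S) (p : Ideal R) [hp : P.LiesOver p] :
    dTr R P = Cardinal.toNat (Algebra.trdeg (R ⧸ p) (S ⧸ P)) := by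
  obtain rfl := hp.over
  rfl

variable [Algebra.FiniteType R S] (p : Ideal R) [p.IsPrime]

/-- The prime of `S` under a prime of the fibre. -/
noncomputable def down (Q : Ideal (p.Fiber S)) : Ideal S :=
  Ideal.comap (Algebra.TensorProduct.includeRight : S →ₐ[R] p.Fiber S) Q

theorem under_eq_of_fiber (Q : Ideal (p.Fiber S)) [Q.IsPrime] : (down p Q).under R = p := by
  show Ideal.comap (algebraMap R S) _ = p
  rw [down, ← Ideal.comap_coe (F := AlgHom _ _ _), Ideal.comap_comap, AlgHom.comp_algebraMap_of_tower,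
    IsScalarTower.algebraMap_eq R p.ResidueField (p.Fiber S), ← Ideal.comap_comap,
    (Ideal.eq_bot_of_prime (Ideal.comap (algebraMap p.ResidueField (p.Fiber S)) Q)),
    ← RingHom.ker_eq_comap_bot, Ideal.ker_algebraMap_residueField]

theorem exists_fiber_prime (P : Ideal S) [P.IsPrime] (hP : P.under R = p) :
    ∃ Q : Ideal (p.Fiber S), Q.IsPrime ∧ down p Q = P := by
  let e := PrimeSpectrum.preimageEquivFiber R S ⟨p, inferInstance⟩
  let x : PrimeSpectrum.comap (algebraMap R S) ⁻¹' {⟨p, inferInstance⟩} :=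
    ⟨⟨P, inferInstance⟩, PrimeSpectrum.ext hP⟩
  exact ⟨(e x).asIdeal, (e x).2, congr($(e.symm_apply_apply x).1.1)⟩

theorem le_of_down_le {Q Q' : Ideal (p.Fiber S)} [Q.IsPrime] [Q'.IsPrime]
    (h : down p Q ≤ down p Q') : Q ≤ Q' := by
  intro x hx
  obtain ⟨r, hr, s, hs⟩ := Ideal.Fiber.exists_smul_eq_one_tmul _ x
  have h1 : s ∈ down p Q := by
    show (1 : p.ResidueField) ⊗ₜ[R] s ∈ Q
    rw [← hs]
    exact Submodule.smul_of_tower_mem Q r hx
  have h2 : r • x ∈ Q' := by rw [hs]; exact h h1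
  rw [Algebra.smul_def] at h2
  refine (‹Q'.IsPrime›.mem_or_mem h2).resolve_left fun h3 => hr ?_
  have : algebraMap R S r ∈ down p Q' := by
    show (Algebra.TensorProduct.includeRight : S →ₐ[R] p.Fiber S) (algebraMap R S r) ∈ Q'
    rw [AlgHom.commutes]
    exact h3
  rw [← under_eq_of_fiber p Q']
  exact this

/-- `d(P)` is the dimension of the corresponding irreducible closed subset of the fibre. -/
theorem dim_fiber_quotient (Q : Ideal (p.Fiber S)) [Q.IsPrime] :
    ringKrullDim (p.Fiber S ⧸ Q) = dTr R (down p Q) := by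
  have hPp : (down p Q).under R = p := under_eq_of_fiber p Q
  haveI : (down p Q).LiesOver p := ⟨hPp.symm⟩
  haveI : (down p Q).IsPrime := Ideal.IsPrime.comap _
  rw [dTr_eq (down p Q) p]
  refine trdeg_eq_dim (R₀ := R ⧸ p) (k := p.ResidueField) (D := S ⧸ down p Q) (E := p.Fiber S ⧸ Q)
    (Ideal.quotientMap Q (Algebra.TensorProduct.includeRight : S →ₐ[R] p.Fiber S).toRingHom le_rfl)
    Ideal.quotientMap_injective ?_ (fun x => ?_) (fun z => ?_)
  · intro a b h
    obtain ⟨a, rfl⟩ := Ideal.Quotient.mk_surjective (I := p) a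
    obtain ⟨b, rfl⟩ := Ideal.Quotient.mk_surjective (I := p) b
    refine Ideal.Quotient.eq.2 (hPp.le ?_)
    show algebraMap R S (a - b) ∈ down p Q
    rw [map_sub]
    exact Ideal.Quotient.eq.1 h
  · obtain ⟨r, rfl⟩ := Ideal.Quotient.mk_surjective (I := p) x
    show Ideal.Quotient.mk Q ((Algebra.TensorProduct.includeRight : S →ₐ[R] p.Fiber S) (algebraMap R S r))
      = Ideal.Quotient.mk Q (algebraMap p.ResidueField (p.Fiber S) (algebraMap R p.ResidueField r))
    rw [AlgHom.commutes, ← IsScalarTower.algebraMap_apply]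
  · obtain ⟨x, rfl⟩ := Ideal.Quotient.mk_surjective z
    obtain ⟨r, hr, s, hs⟩ := Ideal.Fiber.exists_smul_eq_one_tmul _ x
    refine ⟨Ideal.Quotient.mk _ (algebraMap R S r), Ideal.Quotient.mk _ s,
      fun h => hr (hPp.le ((Ideal.Quotient.eq_zero_iff_mem (I := down p Q)).1 h)), ?_⟩
    show Ideal.Quotient.mk Q ((Algebra.TensorProduct.includeRight : S →ₐ[R] p.Fiber S) (algebraMap R S r))
        * Ideal.Quotient.mk Q x = Ideal.Quotient.mk Q ((1 : p.ResidueField) ⊗ₜ[R] s)
    rw [AlgHom.commutes, ← map_mul, ← Algebra.smul_def, hs]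

/-- Strictly smaller transcendence degree along a fibre, dropping by one at covers. -/
theorem dTr_lt_of_under_eq {P Q : Ideal S} [P.IsPrime] [Q.IsPrime] (hPQ : P < Q)
    (h : P.under R = Q.under R) :
    dTr R Q < dTr R P ∧
      ((∀ T : Ideal S, T.IsPrime → P < T → ¬ T < Q) → dTr R P = dTr R Q + 1) := by
  haveI : (P.under R).IsPrime := inferInstance
  obtain ⟨P', hP', eP⟩ := exists_fiber_prime (P.under R) P rfl
  obtain ⟨Q', hQ', eQ⟩ := exists_fiber_prime (P.under R) Q h.symm
  have dP := dim_fiber_quotient (P.under R) P'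
  have dQ := dim_fiber_quotient (P.under R) Q'
  rw [eP] at dP
  rw [eQ] at dQ
  have hlt : P' < Q' := lt_of_le_of_ne (le_of_down_le (P.under R) (by rw [eP, eQ]; exact hPQ.le))
    fun e => hPQ.ne (by rw [← eP, ← eQ, e])
  refine ⟨?_, fun hmax => ?_⟩
  · haveI : (Q'.map (Ideal.Quotient.mk P')).IsPrime :=
      Ideal.map_isPrime_of_surjective Ideal.Quotient.mk_surjective (by rw [Ideal.mk_ker]; exact hlt.le)
    have hd := DimTheory.height_add_ringKrullDim_quotient' (P.under R).ResidueField
      (Q'.map (Ideal.Quotient.mk P'))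
    rw [ringKrullDim_eq_of_ringEquiv (DoubleQuot.quotQuotEquivQuotOfLE hlt.le), dQ, dP] at hd
    have h0 : (Q'.map (Ideal.Quotient.mk P')).height ≠ 0 := by
      rw [Ne, Ideal.height_eq_zero_iff_eq_bot, Ideal.map_eq_bot_iff_le_ker, Ideal.mk_ker]
      exact hlt.not_ge
    have hd' : (dTr R Q : ℕ∞) + (Q'.map (Ideal.Quotient.mk P')).height = dTr R P :=
      WithBot.coe_injective (by push_cast; exact hd)
    generalize (Q'.map (Ideal.Quotient.mk P')).height = t at hd' h0
    induction t using ENat.recTopCoe with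
    | top => simp at hd'
    | coe m =>
      norm_cast at hd' h0
      omega
  · have hmax' : ∀ T : Ideal ((P.under R).Fiber S), T.IsPrime → P' < T → ¬ T < Q' := by
      intro T hT hPT hTQ
      refine hmax (down (P.under R) T) (Ideal.IsPrime.comap _)
        (lt_of_le_of_ne (eP.ge.trans (Ideal.comap_mono hPT.le)) fun e => hPT.not_ge ?_)
        (lt_of_le_of_ne ((Ideal.comap_mono hTQ.le).trans eQ.le) fun e => hTQ.not_ge ?_)
      · exact le_of_down_le (P.under R) (by rw [eP, ← e])
      · exact le_of_down_le (P.under R) (by rw [eQ, e])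
    have hd := DimTheory.ringKrullDim_quotient_covBy (P.under R).ResidueField hlt hmax'
    rw [dQ, dP] at hd
    exact_mod_cast hd.symm

end Groth.Agent.PruferDim
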