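import Groth.Agent.PruferDim.Fibre

/-!
# Dimension function for algebras of finite type over a Prüfer domain

`δ(P) = trdeg(S/P over R/p) − ht p` drops strictly along specialisations and by exactly one along covers.
-/

universe u

open TensorProduct

set_option linter.style.haveILetI false

namespace Groth.Agent.PruferDim

variable {R : Type u} [CommRing R] [IsDomain R]
  (hR : ∀ (p : Ideal R) [p.IsPrime], ValuationRing (Localization.AtPrime p))

include hR

theorem dvd_or_dvd (q : Ideal R) [q.IsPrime] (a b : R) :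
    (∃ s ∉ q, ∃ d, s * b = d * a) ∨ (∃ s ∉ q, ∃ d, s * a = d * b) := by
  haveI := hR q
  have key : ∀ a b : R, algebraMap R (Localization.AtPrime q) a ∣ algebraMap R (Localization.AtPrime q) b →
      ∃ s ∉ q, ∃ d, s * b = d * a := by
    rintro a b ⟨c, hc⟩
    obtain ⟨c, s, rfl⟩ := IsLocalization.exists_mk'_eq q.primeCompl c
    rw [IsLocalization.mul_mk'_eq_mk'_of_mul] at hc
    rw [IsLocalization.eq_mk'_iff_mul_eq, ← map_mul] at hc
    obtain ⟨t, ht⟩ := (IsLocalization.eq_iff_exists q.primeCompl _).1 hc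
    exact ⟨t * s, q.primeCompl.mul_mem t.2 s.2, t * c, by linear_combination ht⟩
  rcases (ValuationRing.iff_dvd_total.1 ‹_›).total (algebraMap R (Localization.AtPrime q) a)
    (algebraMap R (Localization.AtPrime q) b) with h | h
  · exact Or.inl (key a b h)
  · exact Or.inr (key b a h)

/-- Among finitely many elements, one divides all the others locally at `q`. -/
theorem exists_dominant (q : Ideal R) [q.IsPrime] {J : Type*} (T : Finset J) (hT : T.Nonempty)
    (c : J → R) : ∃ i ∈ T, ∃ s ∉ q, ∀ j ∈ T, ∃ d, s * c j = d * c i := by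
  classical
  induction hT using Finset.Nonempty.cons_induction with
  | singleton a => exact ⟨a, Finset.mem_singleton_self a, 1, q.primeCompl.one_mem, fun j hj =>
      ⟨1, by rw [Finset.mem_singleton.1 hj]⟩⟩
  | cons a T ha hne ih =>
    obtain ⟨i, hi, s, hs, hd⟩ := ih
    rcases dvd_or_dvd hR q (c i) (c a) with ⟨t, ht, d, h⟩ | ⟨t, ht, d, h⟩
    · refine ⟨i, Finset.mem_cons.2 (Or.inr hi), t * s, q.primeCompl.mul_mem ht hs, fun j hj => ?_⟩
      rcases Finset.mem_cons.1 hj with rfl | hj
      · exact ⟨d * s, by linear_combination s * h⟩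
      · obtain ⟨e, he⟩ := hd j hj
        exact ⟨e * t, by linear_combination t * he⟩
    · refine ⟨a, Finset.mem_cons_self a T, t * s, q.primeCompl.mul_mem ht hs, fun j hj => ?_⟩
      rcases Finset.mem_cons.1 hj with rfl | hj
      · exact ⟨t * s, rfl⟩
      · obtain ⟨e, he⟩ := hd j hj
        exact ⟨e * d, by linear_combination t * he + e * h⟩

omit [IsDomain R] hR

variable {S : Type u} [CommRing S] [Algebra R S]

theorem aeval_quot {ι : Type u} (p : Ideal R) (P : Ideal S) [P.LiesOver p] (y : ι → S)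
    (g : MvPolynomial ι R) :
    MvPolynomial.aeval (fun i => Ideal.Quotient.mk P (y i)) (MvPolynomial.map (Ideal.Quotient.mk p) g) =
      Ideal.Quotient.mk P (MvPolynomial.aeval y g) := by
  induction g using MvPolynomial.induction_on with
  | C a =>
    rw [MvPolynomial.map_C, MvPolynomial.aeval_C, MvPolynomial.aeval_C]
    rfl
  | add f g hf hg => simp only [map_add, hf, hg]
  | mul_X f i hf => simp only [map_mul, MvPolynomial.map_X, MvPolynomial.aeval_X, hf]

/-- Independence modulo `P` over `R ⧸ p` in terms of polynomials over `R`. -/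
theorem algebraicIndependent_quot_iff {ι : Type u} (p : Ideal R) (P : Ideal S) [P.LiesOver p]
    (y : ι → S) :
    AlgebraicIndependent (R ⧸ p) (fun i => Ideal.Quotient.mk P (y i)) ↔
      ∀ g : MvPolynomial ι R, MvPolynomial.aeval y g ∈ P → MvPolynomial.map (Ideal.Quotient.mk p) g = 0 := by
  rw [algebraicIndependent_iff]
  refine ⟨fun h g hg => h _ ?_, fun h G hG => ?_⟩
  · rw [aeval_quot]
    exact Ideal.Quotient.eq_zero_iff_mem.2 hg
  · obtain ⟨g, rfl⟩ := MvPolynomial.map_surjective _ Ideal.Quotient.mk_surjective G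
    rw [aeval_quot] at hG
    exact h g (Ideal.Quotient.eq_zero_iff_mem.1 hG)

theorem finiteType_quot [Algebra.FiniteType R S] (p : Ideal R) (P : Ideal S) [P.LiesOver p] :
    Algebra.FiniteType (R ⧸ p) (S ⧸ P) := by
  haveI : Algebra.FiniteType R (S ⧸ P) :=
    Algebra.FiniteType.of_surjective (Ideal.Quotient.mkₐ R P) Ideal.Quotient.mk_surjective
  exact Algebra.FiniteType.of_restrictScalars_finiteType R (R ⧸ p) (S ⧸ P)

variable [Algebra.FiniteType R S]

theorem card_le_dTr {ι : Type u} [Fintype ι] (P : Ideal S) [P.IsPrime] (p : Ideal R) [p.IsPrime]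
    [P.LiesOver p] {y : ι → S}
    (hy : AlgebraicIndependent (R ⧸ p) (fun i => Ideal.Quotient.mk P (y i))) :
    Fintype.card ι ≤ dTr R P := by
  haveI := finiteType_quot p P
  rw [dTr_eq P p]
  have h := hy.lift_cardinalMk_le_trdeg
  rw [Cardinal.lift_id, Cardinal.lift_id, Cardinal.mk_fintype] at h
  have := Cardinal.toNat_le_toNat h (trdeg_lt_aleph0_of_finiteType (R := R ⧸ p) (S := S ⧸ P))
  rwa [Cardinal.toNat_natCast] at this

theorem exists_basis (Q : Ideal S) [Q.IsPrime] (q : Ideal R) [q.IsPrime] [Q.LiesOver q] :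
    ∃ (ι : Type u) (_ : Fintype ι) (y : ι → S),
      AlgebraicIndependent (R ⧸ q) (fun i => Ideal.Quotient.mk Q (y i)) ∧ Fintype.card ι = dTr R Q := by
  haveI := finiteType_quot q Q
  haveI : FaithfulSMul (R ⧸ q) (S ⧸ Q) :=
    (faithfulSMul_iff_algebraMap_injective _ _).2 fun a b h => by
      obtain ⟨a, rfl⟩ := Ideal.Quotient.mk_surjective (I := q) a
      obtain ⟨b, rfl⟩ := Ideal.Quotient.mk_surjective (I := q) b
      refine Ideal.Quotient.eq.2 ((Q.mem_of_liesOver q _).2 ?_)
      rw [map_sub]
      exact Ideal.Quotient.eq.1 h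
  obtain ⟨ι, x, hx⟩ := exists_isTranscendenceBasis' (R ⧸ q) (S ⧸ Q)
  have hc := hx.cardinalMk_eq_trdeg
  haveI : Finite ι := Cardinal.lt_aleph0_iff_finite.1
    (hc ▸ trdeg_lt_aleph0_of_finiteType (R := R ⧸ q) (S := S ⧸ Q))
  letI := Fintype.ofFinite ι
  choose y hy using fun i => Ideal.Quotient.mk_surjective (x i)
  refine ⟨ι, inferInstance, y, by simpa only [hy] using hx.1, ?_⟩
  rw [dTr_eq Q q, ← hc, Cardinal.mk_fintype, Cardinal.toNat_natCast]

/-- `d(Q) ≤ d(P)` for `P ≤ Q`. -/
theorem independent_lift [IsDomain R]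
    (hR : ∀ (p : Ideal R) [p.IsPrime], ValuationRing (Localization.AtPrime p))
    {P Q : Ideal S} [P.IsPrime] [Q.IsPrime] (hPQ : P ≤ Q) (p q : Ideal R) [p.IsPrime] [q.IsPrime]
    [P.LiesOver p] [Q.LiesOver q] {ι : Type u} (y : ι → S)
    (hy : AlgebraicIndependent (R ⧸ q) (fun i => Ideal.Quotient.mk Q (y i))) :
    AlgebraicIndependent (R ⧸ p) (fun i => Ideal.Quotient.mk P (y i)) := by
  classical
  rw [algebraicIndependent_quot_iff] at hy ⊢
  intro g hg
  ext m
  rw [MvPolynomial.coeff_map, MvPolynomial.coeff_zero, Ideal.Quotient.eq_zero_iff_mem]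
  by_contra hm
  have hmT : m ∈ g.support := MvPolynomial.mem_support_iff.2 fun h => hm (h ▸ p.zero_mem)
  obtain ⟨i, hi, s, hs, hd⟩ := exists_dominant hR q g.support ⟨m, hmT⟩ fun j => g.coeff j
  choose! d hd using hd
  have hcip : g.coeff i ∉ p := fun h => by
    rcases ‹p.IsPrime›.mem_or_mem (show s * g.coeff m ∈ p by rw [hd m hmT]; exact p.mul_mem_left _ h) with h' | h'
    · exact hs (by
        rw [Q.over_def q]
        exact hPQ (show algebraMap R S s ∈ P from (P.mem_of_liesOver p s).1 h'))
    · exact hm h'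
  let d' : (ι →₀ ℕ) → R := Function.update d i s
  let g' : MvPolynomial ι R := ∑ j ∈ g.support, MvPolynomial.monomial j (d' j)
  have hg' : MvPolynomial.C s * g = MvPolynomial.C (g.coeff i) * g' := by
    conv_lhs => rw [g.as_sum, Finset.mul_sum]
    rw [Finset.mul_sum]
    refine Finset.sum_congr rfl fun j hj => ?_
    rw [MvPolynomial.C_mul_monomial, MvPolynomial.C_mul_monomial]
    congr 1
    by_cases hji : j = i
    · subst hji; simp [d', mul_comm]
    · simp [d', hji, hd j hj, mul_comm]
  have hmem : MvPolynomial.aeval y g' ∈ P := by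
    have h1 : algebraMap R S (g.coeff i) * MvPolynomial.aeval y g' ∈ P := by
      rw [← MvPolynomial.aeval_C (f := y), ← map_mul, ← hg', map_mul]
      exact P.mul_mem_left _ hg
    exact (‹P.IsPrime›.mem_or_mem h1).resolve_left fun h => hcip ((P.mem_of_liesOver p _).2 h)
  have h0 := congrArg (MvPolynomial.coeff i) (hy g' (hPQ hmem))
  rw [MvPolynomial.coeff_map, MvPolynomial.coeff_zero, Ideal.Quotient.eq_zero_iff_mem] at h0
  simp only [g', MvPolynomial.coeff_sum, MvPolynomial.coeff_monomial, Finset.sum_ite_eq', hi, if_true,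
    d', Function.update_self] at h0
  exact hs h0

theorem dTr_le [IsDomain R] (hR : ∀ (p : Ideal R) [p.IsPrime], ValuationRing (Localization.AtPrime p))
    {P Q : Ideal S} [P.IsPrime] [Q.IsPrime] (hPQ : P ≤ Q) : dTr R Q ≤ dTr R P := by
  obtain ⟨ι, _, y, hy, hc⟩ := exists_basis Q (Q.under R)
  exact hc ▸ card_le_dTr P (P.under R) (independent_lift hR hPQ _ _ y hy)

/-- A minimal prime of the fibre has full transcendence degree. -/
theorem dTr_ge_of_minimal {P Q : Ideal S} [P.IsPrime] [Q.IsPrime] (hPQ : P ≤ Q)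
    (hmin : ∀ T : Ideal S, T.IsPrime → P ≤ T → T < Q → T.under R ≠ Q.under R) :
    dTr R P ≤ dTr R Q := by
  classical
  obtain ⟨ι, _, y, hy, hc⟩ := exists_basis Q (Q.under R)
  rw [algebraicIndependent_quot_iff] at hy
  let D := S ⧸ P
  let B := MvPolynomial ι R
  let f : B →ₐ[R] D := (Ideal.Quotient.mkₐ R P).comp (MvPolynomial.aeval y)
  letI : Algebra B D := f.toRingHom.toAlgebra
  haveI : IsScalarTower R B D := IsScalarTower.of_algebraMap_eq fun r => (f.commutes r).symm
  haveI : Algebra.FiniteType R D :=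
    Algebra.FiniteType.of_surjective (Ideal.Quotient.mkₐ R P) Ideal.Quotient.mk_surjective
  haveI : Algebra.FiniteType B D := Algebra.FiniteType.of_restrictScalars_finiteType R B D
  let Q' : Ideal D := Q.map (Ideal.Quotient.mk P)
  haveI : Q'.IsPrime :=
    Ideal.map_isPrime_of_surjective Ideal.Quotient.mk_surjective (by rw [Ideal.mk_ker]; exact hPQ)
  have hQ' : Ideal.comap (Ideal.Quotient.mk P) Q' = Q := by
    rw [Ideal.comap_map_of_surjective _ Ideal.Quotient.mk_surjective, ← RingHom.ker_eq_comap_bot,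
      Ideal.mk_ker, sup_eq_left]
    exact hPQ
  let b : Ideal B := Q'.under B
  haveI : Q'.LiesOver b := ⟨rfl⟩
  have hb : ∀ g : B, g ∈ b ↔ MvPolynomial.aeval y g ∈ Q := fun g => by
    rw [← hQ']
    rfl
  -- primes over `b`
  have hT : ∀ T' : Ideal D, T'.IsPrime → T'.under B = b →
      (Ideal.comap (Ideal.Quotient.mk P) T').under R = Q.under R ∧
      ∀ g : B, MvPolynomial.aeval y g ∈ Ideal.comap (Ideal.Quotient.mk P) T' →
        MvPolynomial.map (Ideal.Quotient.mk (Q.under R)) g = 0 := by
    intro T' _ hTb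
    have hiff : ∀ g : B, MvPolynomial.aeval y g ∈ Ideal.comap (Ideal.Quotient.mk P) T' ↔
        MvPolynomial.aeval y g ∈ Q := fun g => by
      rw [← hb, ← hTb]
      rfl
    refine ⟨Ideal.ext fun r => ?_, fun g hg => hy g ((hiff g).1 hg)⟩
    have := hiff (MvPolynomial.C r)
    simpa [Ideal.mem_comap] using this
  have hle : ∀ T' : Ideal D, T'.IsPrime → T'.under B = b → T' ≤ Q' → T' = Q' := by
    intro T' hT' hTb hTQ
    by_contra hne
    have hlt : Ideal.comap (Ideal.Quotient.mk P) T' < Q := by
      refine lt_of_le_of_ne ((Ideal.comap_mono hTQ).trans hQ'.le) fun e => hne ?_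
      exact Ideal.comap_injective_of_surjective _ Ideal.Quotient.mk_surjective (e.trans hQ'.symm)
    refine hmin _ (Ideal.IsPrime.comap _) ?_ hlt (hT T' hT' hTb).1
    intro x hx
    simp [Ideal.Quotient.eq_zero_iff_mem.2 hx]
  have hge : ∀ T' : Ideal D, T'.IsPrime → T'.under B = b → Q' ≤ T' → T' = Q' := by
    intro T' hT' hTb hQT
    by_contra hne
    haveI : (Ideal.comap (Ideal.Quotient.mk P) T').IsPrime := Ideal.IsPrime.comap _
    obtain ⟨hu, hind⟩ := hT T' hT' hTb
    have hlt : Q < Ideal.comap (Ideal.Quotient.mk P) T' := by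
      refine lt_of_le_of_ne (hQ'.ge.trans (Ideal.comap_mono hQT)) fun e => hne ?_
      exact Ideal.comap_injective_of_surjective _ Ideal.Quotient.mk_surjective (e.symm.trans hQ'.symm)
    haveI : (Ideal.comap (Ideal.Quotient.mk P) T').LiesOver (Q.under R) := ⟨hu.symm⟩
    have h1 := card_le_dTr (y := y) (Ideal.comap (Ideal.Quotient.mk P) T') (Q.under R)
      ((algebraicIndependent_quot_iff _ _ y).2 hind)
    have h2 := (dTr_lt_of_under_eq hlt hu.symm).1
    omega
  -- `Q'` is isolated in its fibre over `b`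
  obtain ⟨q, hqp, hq⟩ := exists_fiber_prime b Q' rfl
  haveI : IsNoetherianRing (b.Fiber D) := Algebra.FiniteType.isNoetherianRing b.ResidueField _
  haveI : IsJacobsonRing (b.Fiber D) := isJacobsonRing_of_finiteType (A := b.ResidueField)
  have hopen : IsOpen ({⟨q, hqp⟩} : Set (PrimeSpectrum (b.Fiber D))) := by
    refine ((PrimeSpectrum.isOpen_singleton_tfae_of_isNoetherian_of_isJacobsonRing _).out 0 2 rfl rfl).2
      ⟨?_, ?_⟩
    · rw [PrimeSpectrum.isClosed_singleton_iff_isMaximal]
      obtain ⟨M, hM, hqM⟩ := Ideal.exists_le_maximal q hqp.ne_top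
      haveI : M.IsPrime := hM.isPrime
      have e := hge (down b M) (Ideal.IsPrime.comap _) (under_eq_of_fiber b M) (hq.ge.trans (Ideal.comap_mono hqM))
      have hMq : M ≤ q := le_of_down_le b (by rw [e, hq])
      exact le_antisymm hqM hMq ▸ hM
    · rintro x z hzx rfl
      have hle' : z.asIdeal ≤ q := (PrimeSpectrum.le_iff_specializes _ _).2 hzx
      have e := hle (down b z.asIdeal) (Ideal.IsPrime.comap _) (under_eq_of_fiber b z.asIdeal)
        ((Ideal.comap_mono hle').trans hq.le)
      exact PrimeSpectrum.ext (le_antisymm hle' (le_of_down_le b (by rw [e, hq])))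
  haveI : Algebra.QuasiFiniteAt b.ResidueField q :=
    Algebra.QuasiFiniteAt.of_isOpen_singleton (R := b.ResidueField) ⟨q, hqp⟩ hopen
  haveI : Algebra.WeaklyQuasiFiniteAt B Q' :=
    Algebra.WeaklyQuasiFiniteAt.of_quasiFiniteAt_residueField (R := B) (S := D) (p := b) (q := Q') q hq
  obtain ⟨r, hr, hint⟩ := Algebra.zariskisMainProperty_iff'.1
    (Algebra.ZariskisMainProperty.of_finiteType_of_weaklyQuasiFiniteAt (R := B) Q')
  -- hence `D` is algebraic over the image of `B`
  haveI := finiteType_quot (P.under R) P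
  haveI : IsDomain D := inferInstanceAs (IsDomain (S ⧸ P))
  let A := Algebra.adjoin (R ⧸ P.under R) (Set.range fun i => Ideal.Quotient.mk P (y i))
  have hfA : ∀ g : B, f g ∈ A := fun g => by
    show Ideal.Quotient.mk P (MvPolynomial.aeval y g) ∈ A
    rw [← aeval_quot (P.under R) P y g]
    induction MvPolynomial.map (Ideal.Quotient.mk (P.under R)) g using MvPolynomial.induction_on with
    | C a => rw [MvPolynomial.aeval_C]; exact A.algebraMap_mem a
    | add f g hf hg => rw [map_add]; exact add_mem hf hg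
    | mul_X f i hf =>
      rw [map_mul, MvPolynomial.aeval_X]
      exact mul_mem hf (Algebra.subset_adjoin ⟨i, rfl⟩)
  let fA : B →+* A := f.toRingHom.codRestrict A.toSubring hfA
  have halg : ∀ z : D, IsIntegral B z → IsIntegral A z := by
    rintro z ⟨P0, hP0, hz⟩
    refine ⟨P0.map fA, hP0.map _, ?_⟩
    rw [Polynomial.eval₂_map]
    exact hz
  have hr0 : r ≠ 0 := fun h => hr (h ▸ Q'.zero_mem)
  have halgr : IsAlgebraic A r := by
    obtain ⟨k, hk⟩ := hint r
    rw [← pow_succ] at hk
    exact ((halg _ hk).isAlgebraic).of_pow k.succ_pos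
  haveI : Algebra.IsAlgebraic A D := ⟨fun z => by
    obtain ⟨m, hm⟩ := hint z
    exact IsAlgebraic.of_mul (mem_nonZeroDivisors_of_ne_zero (pow_ne_zero _ hr0)) (halgr.pow _)
      (halg _ hm).isAlgebraic⟩
  have := Cardinal.toNat_le_toNat (Algebra.IsAlgebraic.trdeg_le_cardinalMk (R ⧸ P.under R)
    (Set.range fun i => Ideal.Quotient.mk P (y i))) (Cardinal.lt_aleph0_of_finite _)
  rw [dTr_eq P (P.under R), ← hc]
  exact this.trans ((Cardinal.toNat_le_toNat Cardinal.mk_range_le (Cardinal.lt_aleph0_of_finite _)).trans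
    (le_of_eq (by rw [Cardinal.mk_fintype, Cardinal.toNat_natCast])))

/-- Going down: a prime between `P` and `Q` over a prime between their contractions. -/
theorem exists_between [IsDomain R] (hR : ∀ (p : Ideal R) [p.IsPrime], ValuationRing (Localization.AtPrime p))
    {P Q : Ideal S} [P.IsPrime] [Q.IsPrime] (hPQ : P ≤ Q) (q' : Ideal R) [q'.IsPrime]
    (h1 : P.under R ≤ q') (h2 : q' ≤ Q.under R) :
    ∃ T : Ideal S, T.IsPrime ∧ P ≤ T ∧ T ≤ Q ∧ T.under R = q' := by
  classical
  let M : Submonoid S := Submonoid.map (algebraMap R S) q'.primeCompl ⊔ Q.primeCompl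
  have hdisj : Disjoint ((P ⊔ Ideal.map (algebraMap R S) q' : Ideal S) : Set S) M := by
    rw [Set.disjoint_left]
    intro x hx hxM
    obtain ⟨_, ⟨r, hr, rfl⟩, s, hs, rfl⟩ := Submonoid.mem_sup.1 hxM
    obtain ⟨u, hu, v, hv, huv⟩ := Submodule.mem_sup.1 hx
    -- reduce to a single element of `q'`
    have hv' : ∃ a ∈ q', ∃ t ∉ Q.under R, ∃ d, algebraMap R S t * v = algebraMap R S a * d := by
      have hv2 : v ∈ Submodule.span S (algebraMap R S '' (q' : Set R)) := hv
      clear huv hv hx hxM
      induction hv2 using Submodule.span_induction with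
      | mem z hz =>
        obtain ⟨a, ha, rfl⟩ := hz
        exact ⟨a, ha, 1, (Q.under R).primeCompl.one_mem, 1, by simp⟩
      | zero => exact ⟨0, zero_mem _, 1, (Q.under R).primeCompl.one_mem, 1, by simp⟩
      | smul c z _ ih =>
        obtain ⟨a, ha, t, ht, d, he⟩ := ih
        exact ⟨a, ha, t, ht, c * d, by rw [smul_eq_mul]; linear_combination c * he⟩
      | add z w _ _ ihz ihw =>
        obtain ⟨a, ha, t, ht, d, he⟩ := ihz
        obtain ⟨a', ha', t', ht', d', he'⟩ := ihw
        rcases dvd_or_dvd hR (Q.under R) a a' with ⟨w', hw', e, hwe⟩ | ⟨w', hw', e, hwe⟩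
        · refine ⟨a, ha, w' * t * t', (Q.under R).primeCompl.mul_mem
            ((Q.under R).primeCompl.mul_mem hw' ht) ht',
            algebraMap R S (w' * t') * d + algebraMap R S (t * e) * d', ?_⟩
          have hwe' := congrArg (algebraMap R S) hwe
          simp only [map_mul] at hwe' ⊢
          linear_combination (algebraMap R S w' * algebraMap R S t') * he
            + (algebraMap R S w' * algebraMap R S t) * he' + (algebraMap R S t * d') * hwe'
        · refine ⟨a', ha', w' * t * t', (Q.under R).primeCompl.mul_mem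
            ((Q.under R).primeCompl.mul_mem hw' ht) ht',
            algebraMap R S (t' * e) * d + algebraMap R S (w' * t) * d', ?_⟩
          have hwe' := congrArg (algebraMap R S) hwe
          simp only [map_mul] at hwe' ⊢
          linear_combination (algebraMap R S w' * algebraMap R S t') * he
            + (algebraMap R S w' * algebraMap R S t) * he' + (algebraMap R S t' * d) * hwe'
    obtain ⟨a, ha, t, ht, d, hd⟩ := hv'
    rcases dvd_or_dvd hR (Q.under R) r a with ⟨w, hw, e, he⟩ | ⟨w, hw, e, he⟩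
    · -- `w a = e r`
      have he' := congrArg (algebraMap R S) he
      simp only [map_mul] at he'
      have heq : e ∈ q' := (‹q'.IsPrime›.mem_or_mem (he ▸ q'.mul_mem_left w ha)).resolve_right hr
      have hrP : algebraMap R S r * (algebraMap R S w * algebraMap R S t * s - algebraMap R S e * d) ∈ P := by
        have : algebraMap R S r * (algebraMap R S w * algebraMap R S t * s - algebraMap R S e * d)
            = algebraMap R S w * algebraMap R S t * u := by
          linear_combination (-(algebraMap R S w * algebraMap R S t)) * huv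
            + algebraMap R S w * hd + d * he'
        rw [this]
        exact P.mul_mem_left _ hu
      have hdiff := (‹P.IsPrime›.mem_or_mem hrP).resolve_left fun h => hr (h1 h)
      have hQmem : algebraMap R S w * algebraMap R S t * s ∈ Q := by
        have := Q.add_mem (hPQ hdiff) (Q.mul_mem_right d (show algebraMap R S e ∈ Q from h2 heq))
        simpa using this
      rcases ‹Q.IsPrime›.mem_or_mem hQmem with h | h
      · rcases ‹Q.IsPrime›.mem_or_mem h with h | h
        · exact hw h
        · exact ht h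
      · exact hs h
    · exact hr ((‹q'.IsPrime›.mem_or_mem (he ▸ q'.mul_mem_left e ha : w * r ∈ q')).resolve_left
        fun h => hw (h2 h))
  obtain ⟨T, hT, hle, hTM⟩ := Ideal.exists_le_prime_disjoint _ M hdisj
  refine ⟨T, hT, le_sup_left.trans hle, fun x hx => ?_, le_antisymm (fun r hr => ?_) fun r hr => ?_⟩
  · by_contra hxQ
    exact Set.disjoint_left.1 hTM hx (Submonoid.mem_sup_right hxQ)
  · by_contra hrq
    exact Set.disjoint_left.1 hTM hr (Submonoid.mem_sup_left ⟨r, hrq, rfl⟩)
  · exact hle (Submodule.mem_sup_right (Ideal.mem_map_of_mem _ hr))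

omit [Algebra.FiniteType R S] in
theorem height_covBy [IsDomain R] (hR : ∀ (p : Ideal R) [p.IsPrime], ValuationRing (Localization.AtPrime p))
    {p q : Ideal R} [p.IsPrime] [q.IsPrime] (h : p < q)
    (hmax : ∀ r : Ideal R, r.IsPrime → p < r → ¬ r < q) : q.height = p.height + 1 := by
  refine le_antisymm ?_ (Ideal.height_add_one_le_of_lt_of_isPrime h)
  generalize hn : p.height = n
  induction n using ENat.recTopCoe with
  | top => simp
  | coe n =>
    refine Ideal.height_le_iff.2 fun r hr hrq => ?_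
    have hrp : r ≤ p := by
      by_contra hrp
      obtain ⟨a, har, hap⟩ := Set.not_subset.1 hrp
      have hpr : p ≤ r := fun b hb => by
        rcases dvd_or_dvd hR q a b with ⟨s, hs, d, hd⟩ | ⟨s, hs, d, hd⟩
        · exact (hr.mem_or_mem (hd ▸ r.mul_mem_left d har)).resolve_left fun h' => hs (hrq.le h')
        · exact absurd ((‹p.IsPrime›.mem_or_mem (hd ▸ p.mul_mem_left d hb)).resolve_left
            fun h' => hs (h.le h')) hap
      exact hmax r hr (lt_of_le_of_ne hpr fun e => hap (e ▸ har)) hrq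
    calc r.height ≤ p.height := Ideal.height_mono hrp
      _ = (n : ℕ∞) := hn
      _ < (n : ℕ∞) + 1 := by exact_mod_cast Nat.lt_succ_self n

/-- The dimension function. -/
noncomputable def delta (R : Type u) [CommRing R] [Algebra R S] (P : Ideal S) : ℤ :=
  (dTr R P : ℤ) - ((P.under R).height.toNat : ℤ)

theorem main [IsDomain R] (hR : ∀ (p : Ideal R) [p.IsPrime], ValuationRing (Localization.AtPrime p))
    (hdim : ringKrullDim R < ⊤) {P Q : Ideal S} [hP : P.IsPrime] [hQ : Q.IsPrime] (hPQ : P < Q) :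
    delta R Q < delta R P ∧
      ((⟨P, hP⟩ : PrimeSpectrum S) ⋖ ⟨Q, hQ⟩ → delta R P = delta R Q + 1) := by
  have hfinite : ∀ p : Ideal R, p.IsPrime → p.height ≠ ⊤ := fun p hp h => by
    have := Ideal.height_le_ringKrullDim_of_ne_top hp.ne_top
    rw [h] at this
    exact absurd (this.trans_lt hdim) (lt_irrefl _)
  have hmono : P.under R ≤ Q.under R := Ideal.comap_mono hPQ.le
  obtain heq | hlt := eq_or_lt_of_le hmono
  · obtain ⟨h1, h2⟩ := dTr_lt_of_under_eq hPQ heq
    unfold delta
    rw [heq]
    refine ⟨by omega, fun hcov => ?_⟩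
    rw [h2 fun T hT hPT hTQ => hcov.2 (c := ⟨T, hT⟩) hPT hTQ]
    push_cast; ring
  · have hd := dTr_le hR hPQ.le
    have hh : (P.under R).height.toNat + 1 ≤ (Q.under R).height.toNat := by
      have h := Ideal.height_add_one_le_of_lt_of_isPrime hlt
      obtain ⟨a, ha⟩ := ENat.ne_top_iff_exists.1 (hfinite _ (inferInstance : (P.under R).IsPrime))
      obtain ⟨b, hb⟩ := ENat.ne_top_iff_exists.1 (hfinite _ (inferInstance : (Q.under R).IsPrime))
      rw [← ha, ← hb] at h ⊢
      simp only [ENat.toNat_coe]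
      exact_mod_cast h
    unfold delta
    refine ⟨by omega, fun hcov => ?_⟩
    have hcovR : ∀ r : Ideal R, r.IsPrime → P.under R < r → ¬ r < Q.under R := by
      intro r hr h1 h2
      obtain ⟨T, hT, hPT, hTQ, hTr⟩ := exists_between hR hPQ.le r h1.le h2.le
      refine hcov.2 (c := ⟨T, hT⟩) (lt_of_le_of_ne hPT fun e => h1.ne ?_)
        (lt_of_le_of_ne hTQ fun e => h2.ne ?_)
      · rw [← hTr, show P = T from congrArg PrimeSpectrum.asIdeal e]
      · rw [← hTr, show T = Q from congrArg PrimeSpectrum.asIdeal e]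
    have hmin : ∀ T : Ideal S, T.IsPrime → P ≤ T → T < Q → T.under R ≠ Q.under R := by
      intro T hT hPT hTQ he
      refine hcov.2 (c := ⟨T, hT⟩) (lt_of_le_of_ne hPT fun e => hlt.ne ?_) hTQ
      rw [show P = T from congrArg PrimeSpectrum.asIdeal e, he]
    have hge := dTr_ge_of_minimal (R := R) hPQ.le hmin
    have hht := height_covBy hR hlt hcovR
    have : (Q.under R).height.toNat = (P.under R).height.toNat + 1 := by
      rw [hht, ENat.toNat_add (hfinite _ inferInstance) ENat.one_ne_top]
      rfl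
    omega

end Groth.Agent.PruferDim
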